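import Groth.Agent.SpecSp.K416.Basic
import Mathlib.Topology.Category.TopCat.Limits.Cofiltered
import Mathlib.Topology.Category.TopCat.Limits.Konig
import Mathlib.CategoryTheory.Limits.Preserves.Basic
import Mathlib.CategoryTheory.Limits.ConcreteCategory.Basic

/-!
# Limits of spectral spaces along spectral maps
-/

set_option autoImplicit false

open Topology TopologicalSpace Set CategoryTheory CategoryTheory.Limits

namespace Groth.Agent.SpecSp.K416.Limits

universe u

variable {J : Type u} [SmallCategory J] {F : J ⥤ TopCat.{u}} {c : Cone F}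

/-- compatible families of points lift to the limit -/
theorem exists_of_compatible (hc : IsLimit c) (x : ∀ j, F.obj j)
    (hx : ∀ {i j : J} (a : i ⟶ j), F.map a (x i) = x j) :
    ∃ y : c.pt, ∀ j, c.π.app j y = x j := by
  let e := hc.conePointUniqueUpToIso (TopCat.limitConeIsLimit.{u, u} F)
  let z : (TopCat.limitCone.{u, u} F).pt := ⟨x, fun a => hx a⟩
  refine ⟨e.inv z, fun j => ?_⟩
  have h := IsLimit.conePointUniqueUpToIso_inv_comp hc (TopCat.limitConeIsLimit.{u, u} F) j
  have h2 := ConcreteCategory.congr_hom h z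
  exact h2

theorem ext_of_isLimit (hc : IsLimit c) (x y : c.pt) (h : ∀ j, c.π.app j x = c.π.app j y) :
    x = y :=
  Concrete.isLimit_ext F hc x y h

theorem map_π (x : c.pt) {i j : J} (a : i ⟶ j) : F.map a (c.π.app i x) = c.π.app j x := by
  have := ConcreteCategory.congr_hom (c.w a) x
  exact this

/-- the limit of the constructible topologies -/
@[instance_reducible]
def limConstr (c : Cone F) : TopologicalSpace c.pt :=
  ⨅ j, (constructibleTopology (F.obj j)).induced (c.π.app j)

theorem limConstr_le (hF : ∀ j, SpectralSpace (F.obj j)) (hc : IsLimit c) :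
    limConstr c ≤ (inferInstance : TopologicalSpace c.pt) := by
  have h : (inferInstance : TopologicalSpace c.pt) = c.pt.str := rfl
  rw [h, TopCat.induced_of_isLimit c hc]
  refine iInf_mono fun j => ?_
  have := hF j
  exact induced_mono Basic.le_of_prespectral

theorem continuous_π_constr (j : J) :
    @Continuous c.pt (F.obj j) (limConstr c) (constructibleTopology (F.obj j)) (c.π.app j) :=
  continuous_iff_le_induced.2 (iInf_le _ j)

theorem compactSpace_limConstr (hF : ∀ j, SpectralSpace (F.obj j))
    (hFm : ∀ {i j : J} (a : i ⟶ j), IsSpectralMap (F.map a : F.obj i → F.obj j))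
    (hc : IsLimit c) : @CompactSpace c.pt (limConstr c) := by
  have hT2 : ∀ j, @T2Space (F.obj j) (constructibleTopology (F.obj j)) := fun j => by
    have := hF j
    exact Groth.Agent.Proet.Spectral.t2Space_constr
  have hcomp : ∀ j, @CompactSpace (F.obj j) (constructibleTopology (F.obj j)) := fun j => by
    have := hF j
    exact Groth.Agent.Proet.Spectral.compactSpace_constr
  have hcm : ∀ (i j : J) (a : i ⟶ j), @Continuous (F.obj i) (F.obj j)
      (constructibleTopology (F.obj i)) (constructibleTopology (F.obj j)) (F.map a) :=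
    fun i j a => Basic.continuous_constr (hFm a)
  let tP : ∀ j, TopologicalSpace (F.obj j) := fun j => constructibleTopology (F.obj j)
  let ι : c.pt → (∀ j, F.obj j) := fun x j => c.π.app j x
  let S : Set (∀ j, F.obj j) := {u | ∀ (i j : J) (f : i ⟶ j), F.map f (u i) = u j}
  have hrange : range ι = S := by
    apply subset_antisymm
    · rintro _ ⟨x, rfl⟩ i j f
      exact map_π x f
    · intro u hu
      obtain ⟨y, hy⟩ := exists_of_compatible hc u (fun {i j} a => hu i j a)
      exact ⟨y, funext hy⟩
  have hS : @IsClosed (∀ j, F.obj j) (@Pi.topologicalSpace J (fun j => F.obj j) tP) S := by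
    have : S = ⋂ (i : J) (j : J) (f : i ⟶ j), {u | F.map f (u i) = u j} := by
      ext u
      simp [S]
    rw [this]
    refine @isClosed_iInter _ _ (@Pi.topologicalSpace J (fun j => F.obj j) tP) _ fun i => ?_
    refine @isClosed_iInter _ _ (@Pi.topologicalSpace J (fun j => F.obj j) tP) _ fun j => ?_
    refine @isClosed_iInter _ _ (@Pi.topologicalSpace J (fun j => F.obj j) tP) _ fun f => ?_
    refine @isClosed_eq (F.obj j) (∀ j, F.obj j) (tP j)
      (@Pi.topologicalSpace J (fun j => F.obj j) tP) (hT2 j) _ _ ?_ ?_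
    · refine @Continuous.comp (∀ j, F.obj j) (F.obj i) (F.obj j)
        (@Pi.topologicalSpace J (fun j => F.obj j) tP) (tP i) (tP j) _ _ ?_ ?_
      · exact hcm i j f
      · exact @continuous_apply J (fun j => F.obj j) tP i
    · exact @continuous_apply J (fun j => F.obj j) tP j
  have hSc : @IsCompact (∀ j, F.obj j) (@Pi.topologicalSpace J (fun j => F.obj j) tP) S :=
    @IsClosed.isCompact (∀ j, F.obj j) (@Pi.topologicalSpace J (fun j => F.obj j) tP) S
      (@Pi.compactSpace J (fun j => F.obj j) tP hcomp) hS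
  have hind : @IsInducing c.pt (∀ j, F.obj j) (limConstr c)
      (@Pi.topologicalSpace J (fun j => F.obj j) tP) ι := by
    refine @IsInducing.mk _ _ (limConstr c) (@Pi.topologicalSpace J (fun j => F.obj j) tP) ι ?_
    rw [limConstr, Pi.topologicalSpace, induced_iInf]
    refine iInf_congr fun j => ?_
    rw [induced_compose]
    rfl
  refine @CompactSpace.mk _ (limConstr c) ?_
  have h1 := @IsInducing.isCompact_iff c.pt (∀ j, F.obj j) (limConstr c)
    (@Pi.topologicalSpace J (fun j => F.obj j) tP) univ ι hind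
  rw [h1, image_univ, hrange]
  exact hSc

/-- the subset of a limit cut out by pro-constructible conditions is quasi-compact -/
theorem isCompact_of_forall (hF : ∀ j, SpectralSpace (F.obj j))
    (hFm : ∀ {i j : J} (a : i ⟶ j), IsSpectralMap (F.map a : F.obj i → F.obj j))
    (hc : IsLimit c) (Z : ∀ j, Set (F.obj j))
    (hZ : ∀ j, @IsClosed (F.obj j) (constructibleTopology (F.obj j)) (Z j)) :
    IsCompact {x : c.pt | ∀ j, c.π.app j x ∈ Z j} := by
  apply Basic.isCompact_of_le (limConstr_le hF hc)
  refine @IsClosed.isCompact _ (limConstr c) _ (compactSpace_limConstr hF hFm hc) ?_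
  have : {x : c.pt | ∀ j, c.π.app j x ∈ Z j} = ⋂ j, (c.π.app j) ⁻¹' (Z j) := by
    ext x; simp
  rw [this]
  refine @isClosed_iInter _ _ (limConstr c) _ fun j => ?_
  exact @IsClosed.preimage _ _ (limConstr c) (constructibleTopology (F.obj j)) _
    (continuous_π_constr j) _ (hZ j)

/-- A cofiltered limit of nonempty pro-constructible subsets is nonempty. -/
theorem exists_forall_mem [IsCofiltered J] (hF : ∀ j, SpectralSpace (F.obj j))
    (hFm : ∀ {i j : J} (a : i ⟶ j), IsSpectralMap (F.map a : F.obj i → F.obj j))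
    (hc : IsLimit c) (Z : ∀ j, Set (F.obj j)) (hne : ∀ j, (Z j).Nonempty)
    (hZ : ∀ j, @IsClosed (F.obj j) (constructibleTopology (F.obj j)) (Z j))
    (hm : ∀ {i j : J} (a : i ⟶ j), Set.MapsTo (F.map a) (Z i) (Z j)) :
    ∃ x : c.pt, ∀ j, c.π.app j x ∈ Z j := by
  let tZ : ∀ j, TopologicalSpace (Z j) := fun j =>
    (constructibleTopology (F.obj j)).induced Subtype.val
  let G : J ⥤ TopCat.{u} :=
    { obj := fun j => @TopCat.of (Z j) (tZ j)
      map := fun {i j} a => @TopCat.ofHom (Z i) (Z j) (tZ i) (tZ j)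
        (@ContinuousMap.mk (Z i) (Z j) (tZ i) (tZ j) (fun x => ⟨F.map a x.1, hm a x.2⟩) (by
          refine (@continuous_induced_rng (Z j) (F.obj j) (Z i) Subtype.val
            (fun x => ⟨F.map a x.1, hm a x.2⟩) (constructibleTopology (F.obj j)) (tZ i)).2 ?_
          refine @Continuous.comp (Z i) (F.obj i) (F.obj j) (tZ i)
            (constructibleTopology (F.obj i)) (constructibleTopology (F.obj j)) Subtype.val
            (F.map a) (Basic.continuous_constr (hFm a)) ?_
          exact @continuous_induced_dom _ _ Subtype.val (constructibleTopology (F.obj i))))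
      map_id := fun j => by
        ext x
        change F.map (𝟙 j) x.1 = x.1
        rw [F.map_id]; rfl
      map_comp := fun {i j k} a b => by
        ext x
        change F.map (a ≫ b) x.1 = F.map b (F.map a x.1)
        rw [F.map_comp]; rfl }
  have h1 : ∀ j, Nonempty (G.obj j) := fun j => (hne j).to_subtype
  have h2 : ∀ j, CompactSpace (G.obj j) := fun j => by
    have := hF j
    exact @isCompact_iff_compactSpace (F.obj j) (constructibleTopology (F.obj j)) (Z j) |>.1
      (Groth.Agent.Proet.Spectral.IsProCons.isCompact_constr (hZ j))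
  have h3 : ∀ j, T2Space (G.obj j) := fun j => by
    have := hF j
    have h4 : @T2Space (F.obj j) (constructibleTopology (F.obj j)) :=
      Groth.Agent.Proet.Spectral.t2Space_constr
    exact @instT2SpaceSubtype (F.obj j) (constructibleTopology (F.obj j)) (· ∈ Z j) h4
  obtain ⟨z⟩ := TopCat.nonempty_limitCone_of_compact_t2_cofiltered_system.{u, u} G
  obtain ⟨y, hy⟩ := exists_of_compatible hc (fun j => (z.1 j).1) (fun {i j} a => by
    have := z.2 a
    exact congrArg Subtype.val this)
  exact ⟨y, fun j => by rw [hy j]; exact (z.1 j).2⟩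

/-- Descent of emptiness: if the preimage of a pro-constructible set in the limit is empty,
its preimage is already empty at some stage. -/
theorem exists_preimage_eq_empty [IsCofiltered J] (hF : ∀ j, SpectralSpace (F.obj j))
    (hFm : ∀ {i j : J} (a : i ⟶ j), IsSpectralMap (F.map a : F.obj i → F.obj j))
    (hc : IsLimit c) (i : J) (E : Set (F.obj i))
    (hE : @IsClosed (F.obj i) (constructibleTopology (F.obj i)) E)
    (h : c.π.app i ⁻¹' E = ∅) : ∃ (j : J) (a : j ⟶ i), F.map a ⁻¹' E = ∅ := by
  by_contra hcon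
  push Not at hcon
  let Z : ∀ j, Set (F.obj j) := fun j => ⋂ a : j ⟶ i, F.map a ⁻¹' E
  have hZc : ∀ j (a : j ⟶ i), @IsClosed (F.obj j) (constructibleTopology (F.obj j))
      (F.map a ⁻¹' E) := fun j a =>
    @IsClosed.preimage _ _ (constructibleTopology (F.obj j)) (constructibleTopology (F.obj i)) _
      (Basic.continuous_constr (hFm a)) _ hE
  have hZne : ∀ j, (Z j).Nonempty := by
    intro j
    have hj := hF j
    have hcs : @CompactSpace (F.obj j) (constructibleTopology (F.obj j)) :=
      Groth.Agent.Proet.Spectral.compactSpace_constr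
    have h0 : ∀ s : Finset (j ⟶ i), (univ ∩ ⋂ a ∈ s, F.map a ⁻¹' E).Nonempty := by
      intro s
      -- equalize the finitely many arrows
      classical
      have h2 : ∃ (k : J) (b : k ⟶ j) (a : k ⟶ i), ∀ a' ∈ s, b ≫ a' = a := by
        induction s using Finset.induction_on with
        | empty =>
          exact ⟨IsCofiltered.min j i, IsCofiltered.minToLeft j i, IsCofiltered.minToRight j i,
            by simp⟩
        | insert a0 s _ ih =>
          obtain ⟨k, b, a, hb⟩ := ih
          refine ⟨IsCofiltered.eq (b ≫ a0) a, IsCofiltered.eqHom (b ≫ a0) a ≫ b,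
            IsCofiltered.eqHom (b ≫ a0) a ≫ a, ?_⟩
          intro a' ha'
          rw [Finset.mem_insert] at ha'
          rcases ha' with rfl | ha'
          · rw [Category.assoc, IsCofiltered.eq_condition]
          · rw [Category.assoc, hb a' ha']
      obtain ⟨k, b, a, hab⟩ := h2
      obtain ⟨x, hx⟩ := hcon k a
      refine ⟨F.map b x, mem_univ _, ?_⟩
      simp only [mem_iInter]
      intro a' ha'
      have : F.map a' (F.map b x) = F.map a x := by
        rw [← hab a' ha', F.map_comp]; rfl
      rw [mem_preimage, this]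
      exact hx
    obtain ⟨x, hx⟩ := @IsCompact.inter_iInter_nonempty (F.obj j)
      (constructibleTopology (F.obj j)) univ
      (j ⟶ i) (@isCompact_univ _ (constructibleTopology (F.obj j)) hcs)
      (fun a => F.map a ⁻¹' E) (hZc j) h0
    exact ⟨x, hx.2⟩
  have hZcl : ∀ j, @IsClosed (F.obj j) (constructibleTopology (F.obj j)) (Z j) := fun j =>
    @isClosed_iInter _ _ (constructibleTopology (F.obj j)) _ (hZc j)
  have hZm : ∀ {j k : J} (b : j ⟶ k), Set.MapsTo (F.map b) (Z j) (Z k) := by
    intro j k b x hx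
    simp only [Z, mem_iInter, mem_preimage] at hx ⊢
    intro a
    have := hx (b ≫ a)
    rw [F.map_comp] at this
    exact this
  obtain ⟨x, hx⟩ := exists_forall_mem hF hFm hc Z hZne hZcl hZm
  have h1 : x ∈ c.π.app i ⁻¹' E := by
    have := mem_iInter.1 (hx i) (𝟙 i)
    simpa using this
  rw [h] at h1
  exact h1

theorem preimage_subset_preimage_iff [IsCofiltered J] (hF : ∀ j, SpectralSpace (F.obj j))
    (hFm : ∀ {i j : J} (a : i ⟶ j), IsSpectralMap (F.map a : F.obj i → F.obj j))
    (hc : IsLimit c)
    (i : J) (E F' : Set (F.obj i)) (hE : @IsClosed (F.obj i) (constructibleTopology (F.obj i)) E)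
    (hF' : @IsOpen (F.obj i) (constructibleTopology (F.obj i)) F') :
    (c.π.app i ⁻¹' E ⊆ c.π.app i ⁻¹' F') ↔
      ∃ (j : J) (a : j ⟶ i), F.map a ⁻¹' E ⊆ F.map a ⁻¹' F' := by
  constructor
  · intro h
    obtain ⟨j, a, ha⟩ := exists_preimage_eq_empty hF hFm hc i (E ∩ F'ᶜ)
      (@IsClosed.inter _ _ _ (constructibleTopology (F.obj i)) hE
        ((@isClosed_compl_iff _ (constructibleTopology (F.obj i)) F').2 hF')) (by
        rw [preimage_inter, preimage_compl, ← sdiff_eq, sdiff_eq_empty]
        exact h)
    refine ⟨j, a, ?_⟩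
    rw [preimage_inter, preimage_compl, ← sdiff_eq, sdiff_eq_empty] at ha
    exact ha
  · rintro ⟨j, a, h⟩ x hx
    have h1 : c.π.app j x ∈ F.map a ⁻¹' E := by
      rw [mem_preimage, map_π]; exact hx
    have h2 := h h1
    rw [mem_preimage, map_π] at h2
    exact h2

/-- basis of the limit topology -/
theorem isTopologicalBasis_limit [IsCofiltered J] (hF : ∀ j, SpectralSpace (F.obj j))
    (hFm : ∀ {i j : J} (a : i ⟶ j), IsSpectralMap (F.map a : F.obj i → F.obj j))
    (hc : IsLimit c) :
    IsTopologicalBasis {U : Set c.pt | ∃ (j : J) (V : Set (F.obj j)),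
      (IsOpen V ∧ IsCompact V) ∧ U = c.π.app j ⁻¹' V} := by
  refine TopCat.isTopologicalBasis_cofiltered_limit.{u, u, u} F c hc
    (fun j => {V | IsOpen V ∧ IsCompact V}) (fun j => ?_) (fun j => ?_) ?_ ?_
  · have := hF j
    exact PrespectralSpace.isTopologicalBasis
  · have := hF j
    exact ⟨isOpen_univ, isCompact_univ⟩
  · rintro j U V ⟨hU, hU'⟩ ⟨hV, hV'⟩
    have := hF j
    exact ⟨hU.inter hV, QuasiSeparatedSpace.inter_isCompact _ _ hU hU' hV hV'⟩
  · rintro i j f V ⟨hV, hV'⟩
    exact ⟨hV.preimage (hFm f).continuous, (hFm f).isCompact_preimage_of_isOpen hV hV'⟩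

theorem spectralSpace_limit [IsCofiltered J] (hF : ∀ j, SpectralSpace (F.obj j))
    (hFm : ∀ {i j : J} (a : i ⟶ j), IsSpectralMap (F.map a : F.obj i → F.obj j))
    (hc : IsLimit c) : SpectralSpace c.pt := by
  have hT0 : T0Space c.pt := by
    constructor
    intro x y hxy
    apply ext_of_isLimit hc
    intro j
    have := hF j
    exact (hxy.map (c.π.app j).hom.continuous).eq
  refine Basic.spectralSpace_of_basis (limConstr c) (compactSpace_limConstr hF hFm hc) _
    (isTopologicalBasis_limit hF hFm hc) ?_ ?_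
  · rintro _ ⟨j, V, ⟨hV, hV'⟩, rfl⟩
    exact @IsOpen.preimage _ _ (limConstr c) (constructibleTopology (F.obj j)) _
      (continuous_π_constr j) V (IsCompact.isOpen_constructibleTopology_of_isOpen hV' hV)
  · rintro _ ⟨j, V, ⟨hV, hV'⟩, rfl⟩
    exact @IsClosed.preimage _ _ (limConstr c) (constructibleTopology (F.obj j)) _
      (continuous_π_constr j) V
      (Groth.Agent.EtpbcB.Spectral.isClosed_constr_of_isCompact_of_isOpen hV' hV)

theorem isSpectralMap_π [IsCofiltered J] (hF : ∀ j, SpectralSpace (F.obj j))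
    (hFm : ∀ {i j : J} (a : i ⟶ j), IsSpectralMap (F.map a : F.obj i → F.obj j))
    (hc : IsLimit c) (j : J) : IsSpectralMap (c.π.app j : c.pt → F.obj j) := by
  refine ⟨(c.π.app j).hom.continuous, fun V hV hV' => ?_⟩
  apply Basic.isCompact_of_le (limConstr_le hF hc)
  refine @IsClosed.isCompact _ (limConstr c) _ (compactSpace_limConstr hF hFm hc) ?_
  exact @IsClosed.preimage _ _ (limConstr c) (constructibleTopology (F.obj j)) _
      (continuous_π_constr j) V
      (Groth.Agent.EtpbcB.Spectral.isClosed_constr_of_isCompact_of_isOpen hV' hV)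

/-- (1) compact opens descend -/
theorem exists_isCompact_isOpen_preimage_eq [IsCofiltered J] (hF : ∀ j, SpectralSpace (F.obj j))
    (hFm : ∀ {i j : J} (a : i ⟶ j), IsSpectralMap (F.map a : F.obj i → F.obj j))
    (hc : IsLimit c) (U : Set c.pt) (hU : IsOpen U) (hUc : IsCompact U) :
    ∃ (i : J) (Ui : Set (F.obj i)), IsOpen Ui ∧ IsCompact Ui ∧ c.π.app i ⁻¹' Ui = U := by
  classical
  have hB := isTopologicalBasis_limit hF hFm hc
  obtain ⟨S, hS, hUS⟩ := hB.open_eq_sUnion hU
  obtain ⟨T, hTS, hTf, hUT⟩ := hUc.elim_finite_subcover_image (b := S) (c := id)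
    (fun s hs => hB.isOpen (hS hs)) (by rw [hUS, sUnion_eq_biUnion]; rfl)
  have hUT' : U = ⋃₀ T := by
    apply subset_antisymm
    · rw [sUnion_eq_biUnion]; exact hUT
    · rw [hUS]; exact sUnion_subset_sUnion hTS
  clear hUT
  have key : ∀ T : Set (Set c.pt), T.Finite → T ⊆ {U : Set c.pt | ∃ (j : J) (V : Set (F.obj j)),
      (IsOpen V ∧ IsCompact V) ∧ U = c.π.app j ⁻¹' V} →
      ∃ (i : J) (Ui : Set (F.obj i)), IsOpen Ui ∧ IsCompact Ui ∧ c.π.app i ⁻¹' Ui = ⋃₀ T := by
    intro T hT
    induction T, hT using Set.Finite.induction_on with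
    | empty =>
      intro _
      obtain ⟨i⟩ : Nonempty J := IsCofiltered.nonempty
      exact ⟨i, ∅, isOpen_empty, isCompact_empty, by simp⟩
    | @insert A T _ _ ih =>
      intro hAT
      obtain ⟨i, V, hV, hV', hVT⟩ := ih ((subset_insert _ _).trans hAT)
      obtain ⟨j, W, ⟨hW, hW'⟩, hWA⟩ := hAT (mem_insert _ _)
      let k := IsCofiltered.min i j
      let a : k ⟶ i := IsCofiltered.minToLeft i j
      let b : k ⟶ j := IsCofiltered.minToRight i j
      refine ⟨k, (F.map b ⁻¹' W) ∪ (F.map a ⁻¹' V),
        (hW.preimage (hFm b).continuous).union (hV.preimage (hFm a).continuous),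
        ((hFm b).isCompact_preimage_of_isOpen hW hW').union
          ((hFm a).isCompact_preimage_of_isOpen hV hV'), ?_⟩
      rw [sUnion_insert, hWA, ← hVT]
      ext x
      simp only [mem_preimage, mem_union, map_π]
  obtain ⟨i, Ui, h1, h2, h3⟩ := key T hTf (hTS.trans hS)
  exact ⟨i, Ui, h1, h2, h3.trans hUT'.symm⟩

end Groth.Agent.SpecSp.K416.Limits
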