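import Groth.Agent.SpecSp.K416.Sierpinski
import Groth.Agent.SpecSp.K416.Limits

/-!
# A spectral space is a directed limit of finite sober spaces
-/

set_option autoImplicit false

open Topology TopologicalSpace Set CategoryTheory CategoryTheory.Limits

namespace Groth.Agent.SpecSp.K416.FiniteLimit

open Sierpinski

universe u

variable (X : Type u) [TopologicalSpace X]

/-- the finite quotient of `X` cut out by finitely many compact opens -/
def piece (t : Finset (CO X)) (x : X) : t → Prop := fun U => x ∈ U.1.1

/-- the image of `X` -/
abbrev Piece (t : Finset (CO X)) : Type u := range (piece X t)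

/-- transition maps -/
def restr {s t : Finset (CO X)} (h : s ≤ t) : Piece X t → Piece X s := fun f =>
  ⟨fun U => f.1 ⟨U.1, h U.2⟩, by
    obtain ⟨x, hx⟩ := f.2
    exact ⟨x, by ext U; rw [← hx]; rfl⟩⟩

theorem continuous_restr {s t : Finset (CO X)} (h : s ≤ t) : Continuous (restr X h) := by
  refine Continuous.subtype_mk ?_ _
  exact continuous_pi fun U => (continuous_apply _).comp continuous_subtype_val

/-- the diagram -/
def diagram : (Finset (CO X))ᵒᵖ ⥤ TopCat.{u} where
  obj t := TopCat.of (Piece X t.unop)
  map h := TopCat.ofHom ⟨restr X (leOfHom h.unop), continuous_restr X _⟩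

/-- the comparison map -/
def comparison (x : X) : (TopCat.limitCone.{u, u} (diagram X)).pt :=
  ⟨fun t => ⟨piece X t.unop x, ⟨x, rfl⟩⟩, fun _ => rfl⟩

/-- the map from the limit to the power of the Sierpinski space -/
def toPi' (z : (TopCat.limitCone.{u, u} (diagram X)).pt) : CO X → Prop :=
  fun U => (z.1 (Opposite.op {U})).1 ⟨U, Finset.mem_singleton_self U⟩

theorem continuous_toPi' : Continuous (toPi' X) := by
  refine continuous_pi fun U => ?_
  have h1 : Continuous fun z : (TopCat.limitCone.{u, u} (diagram X)).pt =>
      z.1 (Opposite.op {U}) := (continuous_apply _).comp continuous_subtype_val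
  exact (continuous_apply _).comp (continuous_subtype_val.comp h1)

theorem isInducing_comparison [SpectralSpace X] : IsInducing (comparison X) := by
  refine IsInducing.of_comp ?_ (continuous_toPi' X) (isInducing_toPi X)
  refine Continuous.subtype_mk (continuous_pi fun t => Continuous.subtype_mk ?_ _) _
  refine continuous_pi fun U => ?_
  exact (continuous_apply U.1).comp (isInducing_toPi X).continuous

theorem bijective_comparison [SpectralSpace X] : Function.Bijective (comparison X) := by
  classical
  constructor
  · intro x y hxy
    have h := congrArg (toPi' X) hxy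
    exact (isEmbedding_toPi X).injective h
  · intro z
    -- the pro-constructible pieces
    let S : Finset (CO X) → Set X := fun t => {x | piece X t x = (z.1 (Opposite.op t)).1}
    have hcompat : ∀ (t : Finset (CO X)) (U : t),
        (z.1 (Opposite.op t)).1 U = toPi' X z U.1 := by
      intro t U
      have h : ({U.1} : Finset (CO X)) ≤ t := by
        intro V hV
        rw [Finset.mem_singleton] at hV
        rw [hV]
        exact U.2
      have h2 := z.2 (homOfLE h).op
      have h3 := congrFun (congrArg Subtype.val h2) ⟨U.1, Finset.mem_singleton_self _⟩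
      exact h3
    have hS : ∀ t, Groth.Agent.Proet.Spectral.IsProCons (S t) := by
      intro t
      have : S t = ⋂ U : t, (if toPi' X z U.1 then U.1.1 else U.1.1ᶜ) := by
        ext x
        simp only [S, mem_iInter]
        constructor
        · intro hx U
          have h1 : (x ∈ U.1.1) = toPi' X z U.1 := by
            rw [← hcompat t U]; exact congrFun hx U
          split_ifs with h
          · rw [← h1] at h; exact h
          · rw [← h1] at h; exact h
        · intro hx
          change piece X t x = _
          funext U
          rw [hcompat t U]
          have h1 := hx U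
          split_ifs at h1 with h
          · exact propext ⟨fun _ => h, fun _ => h1⟩
          · exact propext ⟨fun h2 => absurd h2 h1, fun h2 => absurd h2 h⟩
      rw [this]
      refine Groth.Agent.Proet.Spectral.isProCons_iInter fun U => ?_
      split_ifs
      · exact Groth.Agent.Proet.Spectral.isProCons_compactOpen U.1.2.2 U.1.2.1
      · exact Groth.Agent.Proet.Spectral.isProCons_of_isClosed U.1.2.1.isClosed_compl
    obtain ⟨x, hx⟩ := Groth.Agent.Proet.Spectral.nonempty_iInter_of_directed S hS (by
        intro s t
        refine ⟨s ∪ t, ?_, ?_⟩
        · intro x hx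
          change piece X s x = _
          funext U
          rw [hcompat s U]
          have := congrFun hx ⟨U.1, Finset.mem_union_left _ U.2⟩
          rw [hcompat] at this
          exact this
        · intro x hx
          change piece X t x = _
          funext U
          rw [hcompat t U]
          have := congrFun hx ⟨U.1, Finset.mem_union_right _ U.2⟩
          rw [hcompat] at this
          exact this)
      (fun t => (z.1 (Opposite.op t)).2)
    refine ⟨x, ?_⟩
    apply Subtype.ext
    funext t
    apply Subtype.ext
    exact mem_iInter.1 hx t.unop

/-- the homeomorphism -/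
noncomputable def homeo [SpectralSpace X] :
    X ≃ₜ (TopCat.limitCone.{u, u} (diagram X)).pt :=
  (Equiv.ofBijective _ (bijective_comparison X)).toHomeomorphOfIsInducing
    (isInducing_comparison X)

theorem exists_limit [SpectralSpace X] :
    ∃ (J : Type u) (_ : Preorder J) (_ : Nonempty J) (_ : IsDirected J (· ≤ ·)) (F : Jᵒᵖ ⥤ TopCat.{u})
      (c : Cone F), Nonempty (IsLimit c) ∧
        (∀ j : Jᵒᵖ, Finite (F.obj j) ∧ T0Space (F.obj j) ∧ QuasiSober (F.obj j)) ∧
        Nonempty (c.pt ≅ TopCat.of X) := by
  classical
  refine ⟨Finset (CO X), inferInstance, ⟨∅⟩, inferInstance, diagram X,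
    TopCat.limitCone.{u, u} (diagram X), ⟨TopCat.limitConeIsLimit.{u, u} _⟩, ?_, ?_⟩
  · intro t
    have h1 : Finite (Piece X t.unop) := inferInstance
    have h0 := t0Space_prop
    refine ⟨h1, ?_, ?_⟩
    · exact (inferInstance : T0Space (Piece X t.unop))
    · exact quasiSober_of_finite (Piece X t.unop)
  · exact ⟨(TopCat.isoOfHomeo (homeo X)).symm⟩

end Groth.Agent.SpecSp.K416.FiniteLimit
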