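import Groth.Agent.Proet.Spectral
import Groth.Agent.EtpbcB.Spectral
import Groth.Agent.Ega4fib.H121.ProConsBasic
import Mathlib.Topology.Spectral.ConstructibleTopology
import Mathlib.Topology.Spectral.Hom
import Mathlib.Topology.Homeomorph.Lemmas

/-!
# Spectral spaces: a recognition criterion and the constructible topology

* `spectralSpace_of_generateFrom`: a `T0` topology generated by sets which are clopen for some
  quasi-compact topology is spectral;
* `constructibleTopology_eq`: that quasi-compact topology is then the constructible topology.
-/

set_option autoImplicit false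

open Topology TopologicalSpace Set

namespace Groth.Agent.SpecSp.K416.Basic

universe u v

variable {X : Type u} {Y : Type v}

/-- compactness passes to a coarser topology -/
theorem isCompact_of_le {t t' : TopologicalSpace X} (h : t' ≤ t) {s : Set X}
    (hs : @IsCompact X t' s) : @IsCompact X t s := by
  have hid : @Continuous X X t' t id := by
    rw [@continuous_def _ _ t' t]
    intro s hs
    exact h s hs
  have := @IsCompact.image X X t' t s id hs hid
  simpa using this

section criterion

/-- Let `t'` be a quasi-compact topology on `X`, finer than `τ`, and `B` a basis of `τ` made of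
`t'`-clopen sets. If `τ` is `T0` then it is spectral. -/
theorem spectralSpace_of_basis (t' : TopologicalSpace X) [τ : TopologicalSpace X]
    (hc : @CompactSpace X t')
    (B : Set (Set X)) (hB : IsTopologicalBasis B) (hBo : ∀ U ∈ B, IsOpen[t'] U)
    (hBc : ∀ U ∈ B, IsClosed[t'] U) [T0Space X] : SpectralSpace X := by
  have hle : t' ≤ τ := by
    intro s hs
    obtain ⟨S, hS, rfl⟩ := hB.open_eq_sUnion hs
    exact @isOpen_sUnion X t' S fun t ht => hBo t (hS ht)
  have hcl : ∀ s : Set X, IsClosed[τ] s → IsClosed[t'] s := by
    intro s hs
    rw [← @isOpen_compl_iff X s t']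
    exact hle _ hs.isOpen_compl
  have hcompact : ∀ s : Set X, IsClosed[t'] s → IsCompact s := by
    intro s hs
    exact isCompact_of_le hle (@IsClosed.isCompact X t' s hc hs)
  have hkey : ∀ U : Set X, IsOpen U → IsCompact U → IsClosed[t'] U := by
    intro U hU hUc
    obtain ⟨S, hS, hUS⟩ := hB.open_eq_sUnion hU
    obtain ⟨T, hTS, hTf, hUT⟩ := hUc.elim_finite_subcover_image (b := S) (c := id)
      (fun s hs => hB.isOpen (hS hs)) (by rw [hUS, sUnion_eq_biUnion]; rfl)
    have : U = ⋃ s ∈ T, s := by
      apply subset_antisymm hUT
      rw [hUS, sUnion_eq_biUnion]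
      exact biUnion_subset_biUnion_left hTS
    rw [this]
    exact @Set.Finite.isClosed_biUnion X _ t' T id hTf fun s hs => hBc s (hS (hTS hs))
  have h1 : CompactSpace X := ⟨hcompact _ (@isClosed_univ X t')⟩
  have h2 : PrespectralSpace X := .of_isTopologicalBasis hB fun U hU => hcompact U (hBc U hU)
  have h3 : QuasiSeparatedSpace X := by
    constructor
    intro U V hU hUc hV hVc
    exact hcompact _ (@IsClosed.inter X U V t' (hkey U hU hUc) (hkey V hV hVc))
  have h4 : QuasiSober X := by
    constructor
    intro Z hZ hZc
    let ι := {U : Set X // U ∈ B ∧ (Z ∩ U).Nonempty}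
    have hne : Nonempty ι := by
      obtain ⟨z, hz⟩ := hZ.nonempty
      obtain ⟨U, hU, hzU, -⟩ := hB.exists_subset_of_mem_open (mem_univ z) isOpen_univ
      exact ⟨⟨U, hU, ⟨z, hz, hzU⟩⟩⟩
    have hint : (⋂ U : ι, Z ∩ U.1).Nonempty := by
      refine @IsCompact.nonempty_iInter_of_directed_nonempty_isCompact_isClosed X t' ι _
        (fun U => Z ∩ U.1) ?_ (fun U => U.2.2) (fun U => ?_) (fun U => ?_)
      · rintro ⟨U, hU, hZU⟩ ⟨V, hV, hZV⟩
        obtain ⟨z, hz, hzU, hzV⟩ := hZ.2 U V (hB.isOpen hU) (hB.isOpen hV) hZU hZV
        obtain ⟨W, hW, hzW, hWUV⟩ := hB.exists_subset_of_mem_open (show z ∈ U ∩ V from ⟨hzU, hzV⟩)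
          ((hB.isOpen hU).inter (hB.isOpen hV))
        exact ⟨⟨W, hW, ⟨z, hz, hzW⟩⟩, inter_subset_inter_right _ fun x hx => (hWUV hx).1,
          inter_subset_inter_right _ fun x hx => (hWUV hx).2⟩
      · exact @IsClosed.isCompact X t' _ hc
          (@IsClosed.inter X Z U.1 t' (hcl _ hZc) (hBc _ U.2.1))
      · exact @IsClosed.inter X Z U.1 t' (hcl _ hZc) (hBc _ U.2.1)
    obtain ⟨z, hz⟩ := hint
    rw [mem_iInter] at hz
    refine ⟨z, ?_⟩
    apply subset_antisymm
    · exact closure_minimal (singleton_subset_iff.2 (hz (Classical.arbitrary ι)).1) hZc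
    · intro x hx
      rw [hB.mem_closure_iff]
      intro U hU hxU
      exact ⟨z, (hz ⟨U, hU, ⟨x, hx, hxU⟩⟩).2, rfl⟩
  exact { toT0Space := inferInstance, toCompactSpace := h1, toQuasiSober := h4,
          toQuasiSeparatedSpace := h3, toPrespectralSpace := h2 }

/-- Let `t'` be a quasi-compact topology on `X` and `B` a set of `t'`-clopen sets which generates
the topology `τ`. If `τ` is `T0` then it is spectral. -/
theorem spectralSpace_of_generateFrom (t' : TopologicalSpace X) [τ : TopologicalSpace X]
    (hc : @CompactSpace X t')
    (B : Set (Set X)) (hB : τ = generateFrom B) (hBo : ∀ U ∈ B, IsOpen[t'] U)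
    (hBc : ∀ U ∈ B, IsClosed[t'] U) [T0Space X] : SpectralSpace X := by
  refine spectralSpace_of_basis t' hc _ (isTopologicalBasis_of_subbasis hB) ?_ ?_
  · rintro _ ⟨f, ⟨hf, hfB⟩, rfl⟩
    exact @Set.Finite.isOpen_sInter X t' f hf fun t ht => hBo t (hfB ht)
  · rintro _ ⟨f, ⟨hf, hfB⟩, rfl⟩
    exact @isClosed_sInter X t' f fun t ht => hBc t (hfB ht)

/-- The quasi-compact topology of the criterion is the constructible topology. -/
theorem constructibleTopology_eq_of_le (t' : TopologicalSpace X) [τ : TopologicalSpace X]
    [SpectralSpace X]
    (hc : @CompactSpace X t') (hle : t' ≤ τ)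
    (hcl : ∀ U : Set X, IsOpen U → IsCompact U → IsClosed[t'] U) :
    t' = constructibleTopology X := by
  have hle' : t' ≤ constructibleTopology X := by
    rw [constructibleTopology]
    rw [le_generateFrom_iff_subset_isOpen]
    rintro s (⟨hs, hsc⟩ | ⟨hs, hsc⟩)
    · exact hle _ hs
    · have := hcl sᶜ hs.isOpen_compl hsc
      rw [← @isOpen_compl_iff X _ t', compl_compl] at this
      exact this
  apply le_antisymm hle'
  have hT2 : @T2Space X (constructibleTopology X) := Groth.Agent.Proet.Spectral.t2Space_constr
  have hcont : @Continuous X X t' (constructibleTopology X) id := continuous_id_iff_le.2 hle'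
  have hclm := @Continuous.isClosedMap X X t' (constructibleTopology X) hc hT2 id hcont
  intro s hs
  have h1 : IsClosed[t'] sᶜ := by
    rw [@isClosed_compl_iff X t']; exact hs
  have h2 := hclm _ h1
  rw [image_id, @isClosed_compl_iff X (constructibleTopology X)] at h2
  exact h2

end criterion

section maps

variable [TopologicalSpace X] [TopologicalSpace Y]

theorem le_of_prespectral [PrespectralSpace X] :
    constructibleTopology X ≤ (inferInstance : TopologicalSpace X) := by
  intro s hs
  exact Groth.Agent.Proet.Spectral.isOpen_constr_of_isOpen hs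

/-- a spectral map is continuous for the constructible topologies -/
theorem continuous_constr {f : X → Y} (hf : IsSpectralMap f) :
    @Continuous X Y (constructibleTopology X) (constructibleTopology Y) f := by
  refine (@continuous_generateFrom_iff X Y f (constructibleTopology X)
    (constructibleTopologySubbasis Y)).2 ?_
  rintro s (⟨hs, hsc⟩ | ⟨hs, hsc⟩)
  · exact IsCompact.isOpen_constructibleTopology_of_isOpen
      (hf.isCompact_preimage_of_isOpen hs hsc) (hs.preimage hf.continuous)
  · refine IsCompact.isOpen_constructibleTopology_of_isClosed ?_ (hs.preimage hf.continuous)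
    rw [← preimage_compl]
    exact hf.isCompact_preimage_of_isOpen hs.isOpen_compl hsc

/-- a continuous map which is continuous for the constructible topologies is spectral -/
theorem isSpectralMap_of_continuous_constr [SpectralSpace X] {f : X → Y} (hf : Continuous f)
    (h : @Continuous X Y (constructibleTopology X) (constructibleTopology Y) f) :
    IsSpectralMap f := by
  refine ⟨hf, fun s hs hsc => ?_⟩
  have h1 : IsClosed[constructibleTopology Y] s :=
    Groth.Agent.EtpbcB.Spectral.isClosed_constr_of_isCompact_of_isOpen hsc hs
  have h2 : IsClosed[constructibleTopology X] (f ⁻¹' s) :=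
    @IsClosed.preimage X Y (constructibleTopology X) (constructibleTopology Y) f h s h1
  exact Groth.Agent.Proet.Spectral.IsProCons.isCompact h2

/-- the image of a pro-constructible set under a spectral map is pro-constructible -/
theorem isClosed_constr_image [SpectralSpace X] [SpectralSpace Y] {f : X → Y}
    (hf : IsSpectralMap f) {s : Set X} (hs : IsClosed[constructibleTopology X] s) :
    IsClosed[constructibleTopology Y] (f '' s) := by
  have h1 : @IsCompact X (constructibleTopology X) s :=
    Groth.Agent.Proet.Spectral.IsProCons.isCompact_constr hs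
  have h2 : @IsCompact Y (constructibleTopology Y) (f '' s) :=
    @IsCompact.image X Y (constructibleTopology X) (constructibleTopology Y) s f h1
      (continuous_constr hf)
  exact @IsCompact.isClosed Y (constructibleTopology Y) Groth.Agent.Proet.Spectral.t2Space_constr
    _ h2

/-- A subset closed in the constructible topology is spectral for the induced topology. -/
theorem spectralSpace_of_isClosed_constr [SpectralSpace X] (E : Set X)
    (hE : IsClosed[constructibleTopology X] E) : SpectralSpace E := by
  have hc : @CompactSpace E ((constructibleTopology X).induced Subtype.val) := by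
    have h1 : @IsCompact X (constructibleTopology X) E :=
      Groth.Agent.Proet.Spectral.IsProCons.isCompact_constr hE
    exact @isCompact_iff_compactSpace X (constructibleTopology X) E |>.1 h1
  have hB := (PrespectralSpace.isTopologicalBasis (X := X)).isInducing
    (f := (Subtype.val : E → X)) IsInducing.subtypeVal
  refine spectralSpace_of_basis ((constructibleTopology X).induced Subtype.val) hc _ hB ?_ ?_
  · rintro _ ⟨U, ⟨hU, hUc⟩, rfl⟩
    exact ⟨U, IsCompact.isOpen_constructibleTopology_of_isOpen hUc hU, rfl⟩
  · rintro _ ⟨U, ⟨hU, hUc⟩, rfl⟩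
    refine @IsClosed.preimage E X ((constructibleTopology X).induced Subtype.val)
      (constructibleTopology X) Subtype.val ?_ U
      (Groth.Agent.EtpbcB.Spectral.isClosed_constr_of_isCompact_of_isOpen hUc hU)
    exact @continuous_induced_dom E X Subtype.val (constructibleTopology X)

/-- The constructible topology of a subspace closed in the constructible topology is the induced
one. -/
theorem constructibleTopology_subtype [SpectralSpace X] (E : Set X)
    (hE : IsClosed[constructibleTopology X] E) :
    constructibleTopology E = (constructibleTopology X).induced Subtype.val := by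
  have := spectralSpace_of_isClosed_constr E hE
  symm
  refine constructibleTopology_eq_of_le ((constructibleTopology X).induced Subtype.val) ?_ ?_ ?_
  · have h1 : @IsCompact X (constructibleTopology X) E :=
      Groth.Agent.Proet.Spectral.IsProCons.isCompact_constr hE
    exact @isCompact_iff_compactSpace X (constructibleTopology X) E |>.1 h1
  · exact induced_mono le_of_prespectral
  · intro U hU hUc
    -- a compact open of `E` is the trace of a compact open of `X`
    obtain ⟨V, hV, rfl⟩ := isOpen_induced_iff.1 hU
    have h2 : IsCompact (E ∩ V) := by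
      have := hUc.image continuous_subtype_val
      rwa [Subtype.image_preimage_coe] at this
    obtain ⟨W, hWc, hWo, h3, h4⟩ := PrespectralSpace.exists_isCompact_and_isOpen_between h2 hV
      inter_subset_right
    have h5 : (Subtype.val ⁻¹' V : Set E) = Subtype.val ⁻¹' W := by
      ext x
      constructor
      · intro hx; exact h3 ⟨x.2, hx⟩
      · intro hx; exact h4 hx
    rw [h5]
    refine @IsClosed.preimage E X ((constructibleTopology X).induced Subtype.val)
      (constructibleTopology X) Subtype.val ?_ W
      (Groth.Agent.EtpbcB.Spectral.isClosed_constr_of_isCompact_of_isOpen hWc hWo)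
    exact @continuous_induced_dom E X Subtype.val (constructibleTopology X)

end maps

end Groth.Agent.SpecSp.K416.Basic
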