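import Groth.Agent.SpecSp.K416.Basic
import Mathlib.Topology.NoetherianSpace
import Mathlib.Topology.ContinuousMap.T0Sierpinski

/-!
# Spectral spaces as closed subspaces of powers of the Sierpinski space; finite sober spaces
-/

set_option autoImplicit false

open Topology TopologicalSpace Set

namespace Groth.Agent.SpecSp.K416.Sierpinski

universe u v

/-- A quasi-compact open subset is a finite union of basic open subsets; so it is closed for every
topology in which the basic open subsets are closed. -/
theorem isClosed_of_basis {X : Type u} (t' : TopologicalSpace X) [τ : TopologicalSpace X]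
    (B : Set (Set X)) (hB : IsTopologicalBasis B) (hBc : ∀ U ∈ B, IsClosed[t'] U) (U : Set X)
    (hU : IsOpen U) (hUc : IsCompact U) : IsClosed[t'] U := by
  obtain ⟨S, hS, hUS⟩ := hB.open_eq_sUnion hU
  obtain ⟨T, hTS, hTf, hUT⟩ := hUc.elim_finite_subcover_image (b := S) (c := id)
    (fun s hs => hB.isOpen (hS hs)) (by rw [hUS, sUnion_eq_biUnion]; rfl)
  have : U = ⋃ s ∈ T, s := by
    apply subset_antisymm hUT
    rw [hUS, sUnion_eq_biUnion]
    exact biUnion_subset_biUnion_left hTS
  rw [this]
  exact @Set.Finite.isClosed_biUnion X _ t' T id hTf fun s hs => hBc s (hS (hTS hs))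

/-- A space homeomorphic to a spectral space is spectral. -/
theorem spectralSpace_of_homeomorph {X : Type u} {Y : Type v} [TopologicalSpace X]
    [TopologicalSpace Y] [SpectralSpace Y] (e : X ≃ₜ Y) : SpectralSpace X := by
  have : CompactSpace X := e.symm.compactSpace
  exact e.isOpenEmbedding.spectralSpace

/-- Every finite space is quasi-sober. -/
theorem quasiSober_of_finite (X : Type u) [TopologicalSpace X] [Finite X] : QuasiSober X := by
  classical
  constructor
  intro S hS hSc
  have hf : (closure '' ((fun x : X => ({x} : Set X)) '' S)).Finite := Set.toFinite _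
  obtain ⟨z, hz, hSz⟩ := isIrreducible_iff_sUnion_isClosed.1 hS hf.toFinset (by
      intro z hz
      rw [Set.Finite.mem_toFinset] at hz
      obtain ⟨_, ⟨x, _, rfl⟩, rfl⟩ := hz
      exact isClosed_closure) (by
      intro x hx
      refine ⟨closure {x}, ?_, subset_closure rfl⟩
      rw [Set.Finite.coe_toFinset]
      exact ⟨{x}, ⟨x, hx, rfl⟩, rfl⟩)
  rw [Set.Finite.mem_toFinset] at hz
  obtain ⟨_, ⟨x, hx, rfl⟩, rfl⟩ := hz
  refine ⟨x, ?_⟩
  exact subset_antisymm (closure_minimal (singleton_subset_iff.2 hx) hSc) hSz

/-- Finite `T0` spaces are spectral. -/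
theorem spectralSpace_of_finite (X : Type u) [TopologicalSpace X] [Finite X] [T0Space X] :
    SpectralSpace X :=
  { toT0Space := inferInstance, toCompactSpace := inferInstance,
    toQuasiSober := quasiSober_of_finite X, toQuasiSeparatedSpace := inferInstance,
    toPrespectralSpace := inferInstance }

theorem t0Space_prop : T0Space Prop := by
  constructor
  intro p q hpq
  rw [inseparable_iff_forall_isOpen] at hpq
  have := hpq {True} isOpen_singleton_true
  simp only [mem_singleton_iff, eq_iff_iff, iff_true] at this
  exact propext this

theorem spectralSpace_prop : SpectralSpace Prop := by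
  have := t0Space_prop
  exact spectralSpace_of_finite Prop

section pi

variable (I : Type u)

/-- the subbasic open sets -/
def subbasis : Set (Set (I → Prop)) := range fun i => {f | f i}

theorem pi_eq_generateFrom :
    (inferInstance : TopologicalSpace (I → Prop)) = generateFrom (subbasis I) := by
  have : (inferInstance : TopologicalSpace (I → Prop)) =
    ⨅ i : I, induced (fun f : I → Prop => f i) sierpinskiSpace := rfl
  rw [this]
  apply le_antisymm
  · rw [le_generateFrom_iff_subset_isOpen]
    rintro _ ⟨i, rfl⟩
    refine iInf_le (fun i : I => induced (fun f : I → Prop => f i) sierpinskiSpace) i _ ?_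
    refine ⟨{True}, isOpen_singleton_true, ?_⟩
    ext f
    simp
  · refine le_iInf fun i => ?_
    rw [sierpinskiSpace, induced_generateFrom_eq]
    rw [le_generateFrom_iff_subset_isOpen]
    rintro _ ⟨_, rfl, rfl⟩
    refine isOpen_generateFrom_of_mem ⟨i, ?_⟩
    ext f
    simp

/-- the product of the discrete topologies -/
@[instance_reducible]
def discreteTop : TopologicalSpace (I → Prop) := @Pi.topologicalSpace I (fun _ => Prop) fun _ => ⊥

theorem compactSpace_discreteTop : @CompactSpace (I → Prop) (discreteTop I) :=
  @Pi.compactSpace I (fun _ => Prop) (fun _ => ⊥) fun _ => @Finite.compactSpace _ ⊥ _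

theorem isClopen_subbasis (i : I) :
    IsOpen[discreteTop I] {f | f i} ∧ IsClosed[discreteTop I] {f | f i} := by
  have h : @Continuous (I → Prop) Prop (discreteTop I) ⊥ (fun f => f i) :=
    @continuous_apply I (fun _ => Prop) (fun _ => ⊥) i
  have heq : {f : I → Prop | f i} = (fun f => f i) ⁻¹' {True} := by
    ext f; simp
  rw [heq]
  constructor
  · exact @IsOpen.preimage _ _ (discreteTop I) ⊥ _ h _ (@isOpen_discrete Prop ⊥ (@DiscreteTopology.mk _ ⊥ rfl) _)
  · exact @IsClosed.preimage _ _ (discreteTop I) ⊥ _ h _ (@isClosed_discrete Prop ⊥ (@DiscreteTopology.mk _ ⊥ rfl) _)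

theorem spectralSpace_pi : SpectralSpace (I → Prop) := by
  have h0 : T0Space Prop := t0Space_prop
  refine Basic.spectralSpace_of_generateFrom (discreteTop I) (compactSpace_discreteTop I)
    (subbasis I) (pi_eq_generateFrom I) ?_ ?_
  · rintro _ ⟨i, rfl⟩
    exact (isClopen_subbasis I i).1
  · rintro _ ⟨i, rfl⟩
    exact (isClopen_subbasis I i).2

theorem constructibleTopology_pi : constructibleTopology (I → Prop) = discreteTop I := by
  have := spectralSpace_pi I
  symm
  refine Basic.constructibleTopology_eq_of_le (discreteTop I) (compactSpace_discreteTop I) ?_ ?_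
  · refine iInf_mono fun i => induced_mono bot_le
  · refine isClosed_of_basis (discreteTop I) _
      (isTopologicalBasis_of_subbasis (pi_eq_generateFrom I)) ?_
    rintro _ ⟨f, ⟨hf, hfB⟩, rfl⟩
    refine @isClosed_sInter (I → Prop) (discreteTop I) f fun t ht => ?_
    obtain ⟨i, rfl⟩ := hfB ht
    exact (isClopen_subbasis I i).2

end pi

section embed

variable (X : Type u) [TopologicalSpace X]

/-- compact open subsets -/
abbrev CO := {U : Set X // IsOpen U ∧ IsCompact U}

/-- the canonical map to a power of the Sierpinski space -/
def toPi (x : X) : CO X → Prop := fun U => x ∈ U.1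

theorem isInducing_toPi [PrespectralSpace X] : IsInducing (toPi X) := by
  constructor
  have hpi := pi_eq_generateFrom (CO X)
  change _ = induced (toPi X) (inferInstance : TopologicalSpace (CO X → Prop))
  rw [hpi, induced_generateFrom_eq]
  refine (PrespectralSpace.isTopologicalBasis (X := X)).eq_generateFrom.trans ?_
  congr 1
  ext U
  constructor
  · rintro ⟨hU, hUc⟩
    exact ⟨_, ⟨⟨U, hU, hUc⟩, rfl⟩, rfl⟩
  · rintro ⟨_, ⟨V, rfl⟩, rfl⟩
    exact V.2

theorem isEmbedding_toPi [PrespectralSpace X] [T0Space X] : IsEmbedding (toPi X) :=
  (isInducing_toPi X).isEmbedding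

theorem isSpectralMap_toPi [SpectralSpace X] : IsSpectralMap (toPi X) := by
  refine Basic.isSpectralMap_of_continuous_constr (isInducing_toPi X).continuous ?_
  rw [constructibleTopology_pi]
  refine (@continuous_pi_iff _ _ (fun _ => Prop) (constructibleTopology X) (fun _ => ⊥) _).2 ?_
  intro U
  have hcl : IsClosed[constructibleTopology X] U.1 :=
    EtpbcB.Spectral.isClosed_constr_of_isCompact_of_isOpen U.2.2 U.2.1
  have hop : IsOpen[constructibleTopology X] U.1 :=
    IsCompact.isOpen_constructibleTopology_of_isOpen U.2.2 U.2.1
  refine (@continuous_def _ _ (constructibleTopology X) ⊥ _).2 fun s _ => ?_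
  by_cases h1 : True ∈ s
  · by_cases h2 : False ∈ s
    · convert @isOpen_univ X (constructibleTopology X)
      ext x
      simp only [mem_preimage, mem_univ, iff_true]
      by_cases hx : x ∈ U.1
      · simpa [toPi, hx] using h1
      · simpa [toPi, hx] using h2
    · convert hop
      ext x
      simp only [mem_preimage]
      by_cases hx : x ∈ U.1
      · simpa [toPi, hx] using h1
      · simpa [toPi, hx] using h2
  · by_cases h2 : False ∈ s
    · have hop' : IsOpen[constructibleTopology X] U.1ᶜ :=
        (@isOpen_compl_iff X _ (constructibleTopology X)).2 hcl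
      convert hop'
      ext x
      simp only [mem_preimage, mem_compl_iff]
      by_cases hx : x ∈ U.1
      · simpa [toPi, hx] using h1
      · simpa [toPi, hx] using h2
    · convert @isOpen_empty X (constructibleTopology X)
      ext x
      simp only [mem_preimage, mem_empty_iff_false, iff_false]
      by_cases hx : x ∈ U.1
      · simpa [toPi, hx] using h1
      · simpa [toPi, hx] using h2

theorem isClosed_constr_range_toPi [SpectralSpace X] :
    IsClosed[constructibleTopology (CO X → Prop)] (range (toPi X)) := by
  have := spectralSpace_pi (CO X)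
  rw [← image_univ]
  exact Basic.isClosed_constr_image (isSpectralMap_toPi X)
    (@isClosed_univ X (constructibleTopology X))

end embed

end Groth.Agent.SpecSp.K416.Sierpinski
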